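import Groth.Agent.TwEtLib.Basic
import Groth.Agent.S1379
import Groth.Agent.S1482
import Groth.Agent.TwConstLib.Etale
import Groth.Agent.GeomIrrLib.Basic

/-!
Twisted constant schemes for the fppf topology are quasi-isotrivial.
-/

set_option autoImplicit false
set_option backward.isDefEq.respectTransparency false

noncomputable section

universe u

open CategoryTheory CategoryTheory.Limits AlgebraicGeometry TopologicalSpace

namespace TwEtLib

theorem isTwConst_etale {S : Scheme.{u}} [IsLocallyNoetherian S] (X : Over S)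
    (hX : TwC.IsTwConst TwC.Topology.fppf X) : TwC.IsTwConst TwC.Topology.etale X := by
  intro s
  obtain ⟨S', f, hf, hfp, ⟨s', hs'⟩, I, ⟨w⟩⟩ := hX s
  haveI := hf
  haveI := hfp
  let S₀ : S.Opens := ⟨Set.range f, f.isOpenMap.isOpen_range⟩
  let f₀ := IsOpenImmersion.lift S₀.ι f (by rw [Scheme.Opens.range_ι]; exact subset_rfl)
  have hf₀ : f₀ ≫ S₀.ι = f := IsOpenImmersion.lift_fac _ _ _
  haveI : Flat f₀ := MorphismProperty.of_postcomp (W := @Flat) (W' := @IsOpenImmersion) f₀ S₀.ι inferInstance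
    (hf₀.symm ▸ hf)
  haveI : LocallyOfFinitePresentation f₀ := MorphismProperty.of_postcomp (W := @LocallyOfFinitePresentation)
    (W' := @IsOpenImmersion) f₀ S₀.ι inferInstance (hf₀.symm ▸ hfp)
  haveI : Surjective f₀ := ⟨fun x => by
    obtain ⟨y, hy⟩ := x.2
    refine ⟨y, S₀.ι.isOpenEmbedding.injective ?_⟩
    rw [← Scheme.Hom.comp_apply, hf₀]; exact hy⟩
  let s₀ : S₀.toScheme := ⟨s, s', hs'⟩
  obtain ⟨S'', V, e, π, he, ⟨u₀, hu₀⟩, hπs, hπf, hπfl, hπp, hloc⟩ := Groth.Agent.S1379.result f₀ s₀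
  haveI := he; haveI := hπs; haveI := hπf; haveI := hπfl; haveI := hπp
  obtain ⟨v₀, hv₀⟩ := π.surjective u₀
  obtain ⟨W, r, hv₀W, hr⟩ := hloc v₀
  obtain ⟨U, g, u, hg, hgu, J, hJ, O, v, hO, -, hcover⟩ := Groth.Agent.S1482.result π u₀ (ι := Unit) (fun _ => v₀)
    (fun _ _ _ => rfl) (fun _ => hv₀) (fun _ => π.quasiFiniteAt v₀)
  haveI := hg
  obtain ⟨w₀, hw₀, hw₀'⟩ := Scheme.Pullback.exists_preimage_pullback (f := π) (g := g) v₀ u (hv₀.trans hgu.symm)
  obtain ⟨j, -⟩ := hcover w₀ () hw₀' hw₀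
  obtain ⟨hvO, hfin, hvu, huniq, ⟨hvfin, hvpi⟩, hvx⟩ := hO () j
  haveI := hfin
  let T₀ := (O () j).toScheme
  let h₀ : T₀ ⟶ U := (O () j).ι ≫ pullback.snd π g
  haveI : IsFinite h₀ := hfin
  haveI : Flat h₀ := inferInstanceAs (Flat ((O () j).ι ≫ pullback.snd π g))
  haveI : LocallyOfFinitePresentation h₀ := inferInstanceAs (LocallyOfFinitePresentation ((O () j).ι ≫ pullback.snd π g))
  let A : T₀.Opens := ((O () j).ι ≫ pullback.fst π g) ⁻¹ᵁ W
  let U₁ : U.Opens := ⟨(h₀ '' (A : Set T₀)ᶜ)ᶜ, (h₀.isClosedMap _ A.isOpen.isClosed_compl).isOpen_compl⟩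
  have hu₁ : u ∈ U₁ := by
    rintro ⟨z, hz, hzu⟩
    refine hz ?_
    have h1 : (O () j).ι z = v () j := huniq _ z.2 (by rw [← Scheme.Hom.comp_apply]; exact hzu)
    show ((O () j).ι ≫ pullback.fst π g) z ∈ W
    rw [Scheme.Hom.comp_apply, h1, hvx]
    exact hv₀W
  haveI : IsLocallyNoetherian U := LocallyOfFiniteType.isLocallyNoetherian (g ≫ e ≫ S₀.ι)
  haveI := TwConstLib.locallyConnectedSpace_of_isLocallyNoetherian U
  let U₂ : U.Opens := ⟨connectedComponentIn (U₁ : Set U) u, U₁.isOpen.connectedComponentIn⟩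
  haveI : ConnectedSpace U₂.toScheme := Subtype.connectedSpace (isConnected_connectedComponentIn_iff.2 hu₁)
  let T := (h₀ ⁻¹ᵁ U₂).toScheme
  let h : T ⟶ U₂.toScheme := h₀ ∣_ U₂
  have hsqh := isPullback_morphismRestrict h₀ U₂
  haveI : IsFinite h := IsZariskiLocalAtTarget.restrict ‹IsFinite h₀› U₂
  haveI : Flat h := IsZariskiLocalAtTarget.restrict ‹Flat h₀› U₂
  haveI : LocallyOfFinitePresentation h := IsZariskiLocalAtTarget.restrict ‹LocallyOfFinitePresentation h₀› U₂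
  let t₀ : T₀ := ⟨v () j, hvO⟩
  have ht₀ : h₀ t₀ = u := by
    show ((O () j).ι ≫ pullback.snd π g) t₀ = u
    rw [Scheme.Hom.comp_apply]
    exact hvu
  let t : T := ⟨t₀, by show h₀ t₀ ∈ connectedComponentIn (U₁ : Set U) u; rw [ht₀]; exact mem_connectedComponentIn hu₁⟩
  have huniqt : ∀ t' : T, h t' = h t → t' = t := by
    intro t' ht'
    have h1 := congrArg U₂.ι ht'
    rw [← Scheme.Hom.comp_apply, ← Scheme.Hom.comp_apply, morphismRestrict_ι, Scheme.Hom.comp_apply,
      Scheme.Hom.comp_apply] at h1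
    have h2 : h₀ ((h₀ ⁻¹ᵁ U₂).ι t') = u := h1.trans ht₀
    refine (h₀ ⁻¹ᵁ U₂).ι.isOpenEmbedding.injective ?_
    refine Subtype.ext ?_
    exact huniq _ ((h₀ ⁻¹ᵁ U₂).ι t').2 (by rw [← h2, Scheme.Hom.comp_apply]; rfl)
  haveI : UniversallyInjective (T.fromSpecResidueField t ≫ h) := by
    letI := ((pullback.snd π g).residueFieldMap (v () j)).hom.toAlgebra
    haveI := hvpi
    haveI h1 : UniversallyInjective (Spec.map ((pullback.snd π g).residueFieldMap (v () j))) :=
      (GeomIrrLib.universallyInjective_specMap (U.residueField (pullback.snd π g (v () j))) ((pullback π g).residueField (v () j)) :)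
    let ι' := (h₀ ⁻¹ᵁ U₂).ι ≫ (O () j).ι
    have h2 : UniversallyInjective (Spec.map (ι'.residueFieldMap t) ≫
        Spec.map ((pullback.snd π g).residueFieldMap (v () j)) ≫ U.fromSpecResidueField _) :=
      MorphismProperty.comp_mem @UniversallyInjective _ _ inferInstance
        (MorphismProperty.comp_mem @UniversallyInjective _ _ h1 inferInstance)
    have key : (T.fromSpecResidueField t ≫ h) ≫ U₂.ι = Spec.map (ι'.residueFieldMap t) ≫
        Spec.map ((pullback.snd π g).residueFieldMap (v () j)) ≫ U.fromSpecResidueField _ := by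
      rw [Category.assoc, morphismRestrict_ι, Scheme.Hom.SpecMap_residueFieldMap_fromSpecResidueField]
      erw [Scheme.Hom.SpecMap_residueFieldMap_fromSpecResidueField_assoc]
      simp [ι', h₀, T]
    rw [← key] at h2
    have sq : IsPullback (𝟙 _) (T.fromSpecResidueField t ≫ h) ((T.fromSpecResidueField t ≫ h) ≫ U₂.ι) U₂.ι :=
      IsPullback.of_isLimit' ⟨by simp⟩ (PullbackCone.IsLimit.mk (by simp) (fun c => c.fst) (fun c => by simp)
        (fun c => (cancel_mono U₂.ι).1 (by simpa using c.condition)) (fun c l hl _ => by simpa using hl))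
    exact MorphismProperty.of_isPullback (P := @UniversallyInjective) sq h2
  have hTW : Set.range ((h₀ ⁻¹ᵁ U₂).ι ≫ (O () j).ι ≫ pullback.fst π g) ⊆ Set.range W.ι := by
    rw [Scheme.Opens.range_ι]
    rintro _ ⟨z, rfl⟩
    by_contra hn
    have hz : h₀ ((h₀ ⁻¹ᵁ U₂).ι z) ∈ (U₁ : Set U) := connectedComponentIn_subset _ _ z.2
    exact hz ⟨_, fun hA => hn (by rw [Scheme.Hom.comp_apply]; exact hA), rfl⟩
  let k : T ⟶ S' := IsOpenImmersion.lift W.ι _ hTW ≫ r
  let eU : U₂.toScheme ⟶ S := U₂.ι ≫ g ≫ e ≫ S₀.ι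
  have hk : k ≫ f = h ≫ eU := by
    have h1 : k ≫ f₀ = h ≫ U₂.ι ≫ g ≫ e := by
      show (_ ≫ r) ≫ f₀ = _
      rw [Category.assoc, hr, IsOpenImmersion.lift_fac_assoc, ← Category.assoc h, morphismRestrict_ι]
      simp only [h₀, Category.assoc, pullback.condition_assoc]
    rw [← hf₀, ← Category.assoc, h1]
    simp [eU]
  -- the fibre product over the cover
  let Z := pullback X.hom (h ≫ eU)
  let p : Z ⟶ pullback X.hom eU := pullback.lift (pullback.fst _ _) (pullback.snd _ _ ≫ h)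
    (by rw [Category.assoc, pullback.condition])
  have sqp : IsPullback p (pullback.snd X.hom (h ≫ eU)) (pullback.snd X.hom eU) h := by
    refine IsPullback.of_right ?_ (pullback.lift_snd _ _ _) (IsPullback.of_hasPullback X.hom eU)
    rw [pullback.lift_fst]
    exact IsPullback.of_hasPullback _ _
  let q : Z ⟶ pullback X.hom f := pullback.lift (pullback.fst _ _) (pullback.snd _ _ ≫ k)
    (by rw [Category.assoc, hk, pullback.condition])
  have sqq : IsPullback q (pullback.snd X.hom (h ≫ eU)) (pullback.snd X.hom f) k := by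
    refine IsPullback.of_right ?_ (pullback.lift_snd _ _ _) (IsPullback.of_hasPullback X.hom f)
    rw [pullback.lift_fst, hk]
    exact IsPullback.of_hasPullback _ _
  haveI : IsIso w.hom.left := inferInstanceAs (IsIso ((Over.forget S').map w.hom))
  choose σ hσ hσo hσr hσc using fun i => isOpenImmersion_section_of_pullback w.hom.left k (Over.w w.hom) sqq i
  refine ⟨U₂.toScheme, eU, inferInstanceAs (Etale (U₂.ι ≫ g ≫ e ≫ S₀.ι)), ⟨h t, ?_⟩, I,
    exists_iso_const (pullback.snd X.hom eU) h t huniqt sqp σ hσ hσo (fun i i' a b hab => ?_) (fun z => ?_)⟩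
  · show (U₂.ι ≫ g ≫ e ≫ S₀.ι) (h t) = s
    rw [Scheme.Hom.comp_apply, ← Scheme.Hom.comp_apply h U₂.ι, morphismRestrict_ι, Scheme.Hom.comp_apply]
    show (g ≫ e ≫ S₀.ι) (h₀ t₀) = s
    rw [ht₀, Scheme.Hom.comp_apply, hgu, Scheme.Hom.comp_apply, hu₀]
    rfl
  · have h1 : σ i a ∈ Set.range (σ i) := ⟨a, rfl⟩
    have h2 : σ i a ∈ Set.range (σ i') := ⟨b, hab.symm⟩
    rw [hσr] at h1 h2
    obtain ⟨c, hc⟩ := h1
    obtain ⟨c', hc'⟩ := h2
    exact congrArg Sigma.fst ((sigmaι_eq_iff _ _ _ _ _).1 (hc.trans hc'.symm))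
  · obtain ⟨i, c, hc⟩ := DescLib.exists_sigma_mem ((q ≫ w.hom.left) z)
    have : z ∈ Set.range (σ i) := by rw [hσr]; exact ⟨c, hc⟩
    obtain ⟨a, ha⟩ := this
    exact ⟨i, a, ha⟩

end TwEtLib
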