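import Groth.Agent.AlgSpLib.AffineDescent
import Groth.Agent.DescLib.Family
import Groth.Prelude.Def_TwC
import Mathlib.AlgebraicGeometry.Morphisms.UniversallyInjective
import Mathlib.AlgebraicGeometry.Morphisms.UniversallyOpen

/-!
A scheme which becomes constant over a finite flat cover that is radicial at a point of a connected base is constant.
-/

set_option autoImplicit false
set_option backward.isDefEq.respectTransparency false

noncomputable section

universe u

open CategoryTheory CategoryTheory.Limits AlgebraicGeometry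

namespace TwEtLib

theorem isOpenImmersion_section_of_pullback {T P Z S' : Scheme.{u}} {I : Type u} (e : P ⟶ ∐ fun _ : I => S') [IsIso e]
    (k : T ⟶ S') {q : Z ⟶ P} {pz : Z ⟶ T} {pp : P ⟶ S'} (hpp : e ≫ (Sigma.desc fun _ : I => 𝟙 S') = pp)
    (sq : IsPullback q pz pp k) (i : I) :
    ∃ σ : T ⟶ Z, σ ≫ pz = 𝟙 T ∧ IsOpenImmersion σ ∧ Set.range σ = (q ≫ e) ⁻¹' Set.range (Sigma.ι (fun _ : I => S') i) ∧
      σ ≫ q ≫ e = k ≫ Sigma.ι (fun _ : I => S') i := by
  let ι₀ := Sigma.ι (fun _ : I => S') i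
  have hw : (k ≫ ι₀ ≫ inv e) ≫ pp = 𝟙 T ≫ k := by
    simp [ι₀, ← hpp]
  let σ := sq.lift (k ≫ ι₀ ≫ inv e) (𝟙 T) hw
  have h1 : σ ≫ q ≫ e = k ≫ ι₀ := by simp [σ]
  have sq' : IsPullback σ k (q ≫ e) ι₀ := by
    refine IsPullback.of_isLimit' ⟨h1⟩ (PullbackCone.IsLimit.mk h1 (fun s => s.fst ≫ pz) ?_ ?_ ?_)
    · intro s
      have hc := s.condition =≫ (Sigma.desc fun _ : I => 𝟙 S')
      simp only [Category.assoc, hpp, ι₀, Sigma.ι_desc, Category.comp_id, sq.w] at hc
      apply sq.hom_ext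
      · rw [← cancel_mono e, Category.assoc, Category.assoc, Category.assoc, h1, ← Category.assoc pz,
          ← Category.assoc, hc]
        exact s.condition.symm
      · simp [σ]
    · intro s
      have hc := s.condition =≫ (Sigma.desc fun _ : I => 𝟙 S')
      simp only [Category.assoc, hpp, ι₀, Sigma.ι_desc, Category.comp_id, sq.w] at hc
      rw [Category.assoc]
      exact hc
    · intro s l hl _
      rw [← hl, Category.assoc]
      simp [σ]
  haveI : IsOpenImmersion σ := MorphismProperty.of_isPullback (P := @IsOpenImmersion) sq'.flip inferInstance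
  refine ⟨σ, sq.lift_snd _ _ _, ‹_›, Set.Subset.antisymm ?_ ?_, h1⟩
  · rintro _ ⟨t, rfl⟩
    exact ⟨k t, by rw [← Scheme.Hom.comp_apply, ← h1]; rfl⟩
  · rintro z ⟨y, hy⟩
    obtain ⟨w, hw, -⟩ := Scheme.exists_preimage_of_isPullback sq' z y hy.symm
    exact ⟨w, hw⟩

theorem exists_iso_const {U T Y Z : Scheme.{u}} [ConnectedSpace U] (yh : Y ⟶ U) (h : T ⟶ U) [IsFinite h] [Flat h]
    [LocallyOfFinitePresentation h] (t : T) (ht : ∀ t', h t' = h t → t' = t)
    [UniversallyInjective (T.fromSpecResidueField t ≫ h)]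
    {p : Z ⟶ Y} {pz : Z ⟶ T} (sq : IsPullback p pz yh h) {I : Type u} (σ : I → (T ⟶ Z))
    (hσ : ∀ i, σ i ≫ pz = 𝟙 T) (hσo : ∀ i, IsOpenImmersion (σ i))
    (hdisj : ∀ i j a b, σ i a = σ j b → i = j) (hcov : ∀ z, ∃ i a, σ i a = z) :
    Nonempty (Over.mk yh ≅ TwC.const U I) := by
  haveI : IsFinite p := MorphismProperty.of_isPullback (P := @IsFinite) sq.flip inferInstance
  haveI : Flat p := MorphismProperty.of_isPullback (P := @Flat) sq.flip inferInstance
  haveI : LocallyOfFinitePresentation p :=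
    MorphismProperty.of_isPullback (P := @LocallyOfFinitePresentation) sq.flip inferInstance
  -- nonempty clopen subsets of the cover map onto the base
  have hh : ∀ D : Set T, IsClopen D → D.Nonempty → h '' D = Set.univ := fun D hD hne =>
    IsClopen.eq_univ ⟨h.isClosedMap _ hD.1, h.isOpenMap _ hD.2⟩ (hne.image _)
  haveI : Surjective h := ⟨fun u => by
    have : u ∈ h '' Set.univ := by rw [hh _ isClopen_univ ⟨t, trivial⟩]; trivial
    obtain ⟨a, -, ha⟩ := this
    exact ⟨a, ha⟩⟩
  haveI : Surjective p := MorphismProperty.of_isPullback (P := @Surjective) sq.flip inferInstance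
  haveI : Nonempty U := ⟨h t⟩
  -- the pieces
  have hclosed : ∀ i, IsClosed (Set.range (σ i)) := fun i => by
    have e : Set.range (σ i) = (⋃ j ∈ {j | j ≠ i}, Set.range (σ j))ᶜ := by
      ext z
      constructor
      · rintro ⟨a, rfl⟩ hm
        obtain ⟨j, hj, b, hb⟩ := Set.mem_iUnion₂.1 hm
        exact hj (hdisj j i b a hb)
      · intro hz
        obtain ⟨j, b, rfl⟩ := hcov z
        by_contra hne
        exact hz (Set.mem_iUnion₂.2 ⟨j, fun hji => hne (hji ▸ ⟨b, rfl⟩), ⟨b, rfl⟩⟩)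
    rw [e]
    exact (isOpen_biUnion fun j _ => (hσo j).base_open.isOpen_range).isClosed_compl
  let C : I → Y.Opens := fun i =>
    ⟨p '' Set.range (σ i), p.isOpenMap _ (hσo i).base_open.isOpen_range⟩
  have hCc : ∀ i, IsClosed (C i : Set Y) := fun i => p.isClosedMap _ (hclosed i)
  -- injectivity over the point
  have hinj : ∀ z z' : Z, pz z = t → pz z' = t → p z = p z' → z = z' := by
    intro z z' hz hz' hpp
    let rt := T.fromSpecResidueField t
    have sqQ := IsPullback.of_hasPullback pz rt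
    have hQ := sqQ.flip.paste_vert sq.flip
    haveI : UniversallyInjective (pullback.fst pz rt ≫ p) :=
      MorphismProperty.of_isPullback (P := @UniversallyInjective) hQ (by assumption)
    have hl : ∀ z₀, pz z₀ = t → ∃ w, pullback.fst pz rt w = z₀ := fun z₀ h₀ => by
      have : pz z₀ ∈ Set.range rt := by rw [Scheme.range_fromSpecResidueField, h₀]; rfl
      obtain ⟨y, hy⟩ := this
      obtain ⟨w, hw, -⟩ := Scheme.Pullback.exists_preimage_pullback (f := pz) (g := rt) z₀ y hy.symm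
      exact ⟨w, hw⟩
    obtain ⟨w, rfl⟩ := hl z hz
    obtain ⟨w', rfl⟩ := hl z' hz'
    have := (pullback.fst pz rt ≫ p).injective (a₁ := w) (a₂ := w')
      (by rw [Scheme.Hom.comp_apply, Scheme.Hom.comp_apply]; exact hpp)
    rw [this]
  -- the pieces are disjoint
  have hpre : ∀ i, p ⁻¹' (C i : Set Y) = Set.range (σ i) := by
    intro i
    refine Set.Subset.antisymm (fun z hz => ?_) (Set.subset_preimage_image _ _)
    obtain ⟨j, a, rfl⟩ := hcov z
    obtain rfl | hij := eq_or_ne j i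
    · exact ⟨a, rfl⟩
    exfalso
    let D : Set T := (σ j ≫ p) ⁻¹' (C i : Set Y)
    have hD : IsClopen D := ⟨(hCc i).preimage (σ j ≫ p).continuous, (C i).isOpen.preimage (σ j ≫ p).continuous⟩
    have : h t ∈ h '' D := by
      rw [hh D hD ⟨a, by show (σ j ≫ p) a ∈ (C i : Set Y); rw [Scheme.Hom.comp_apply]; exact hz⟩]
      trivial
    obtain ⟨t', htD, ht'⟩ := this
    obtain rfl := ht t' ht'
    obtain ⟨_, ⟨b, rfl⟩, hb⟩ := (show (σ j ≫ p) t' ∈ (C i : Set Y) from htD)
    have hpz : ∀ (l : I) (c : T), pz (σ l c) = c := fun l c => by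
      rw [← Scheme.Hom.comp_apply, hσ]; rfl
    have hbt : b = t' := ht b (by
      have h1 : ∀ (l : I) (c : T), yh (p (σ l c)) = h c := fun l c => by
        conv_rhs => rw [← hpz l c]
        rw [← Scheme.Hom.comp_apply p yh, sq.w, Scheme.Hom.comp_apply]
      rw [← h1 i b, hb, Scheme.Hom.comp_apply, h1])
    subst hbt
    exact hij (hdisj j i b b (hinj _ _ (hpz j b) (hpz i b) (hb.trans (Scheme.Hom.comp_apply _ _ _)).symm))
  have hrange : ∀ i, Set.range ((σ i) ≫ p) ⊆ Set.range (C i).ι := fun i => by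
    rw [Scheme.Opens.range_ι]
    rintro _ ⟨a, rfl⟩
    exact ⟨σ i a, ⟨a, rfl⟩, (Scheme.Hom.comp_apply _ _ _).symm⟩
  have hiso : ∀ i, IsIso ((C i).ι ≫ yh) := fun i => by
    haveI := hσo i
    let l := IsOpenImmersion.lift (C i).ι (σ i ≫ p) (hrange i)
    have hl : l ≫ (C i).ι = σ i ≫ p := IsOpenImmersion.lift_fac _ _ _
    have sq1 : IsPullback l (σ i) (C i).ι p :=
      IsOpenImmersion.isPullback _ _ _ _ hl.symm (TopologicalSpace.Opens.ext (by
        show p ⁻¹' Set.range (C i).ι = Set.range (σ i)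
        rw [Scheme.Opens.range_ι, hpre]))
    have sq2 : IsPullback l (𝟙 T) ((C i).ι ≫ yh) h := by
      have := sq1.paste_vert sq
      rwa [hσ] at this
    exact MorphismProperty.of_isPullback_of_descendsAlong (P := MorphismProperty.isomorphisms Scheme)
      (Q := @Surjective ⊓ @Flat ⊓ @QuasiCompact) sq2.flip ⟨⟨inferInstance, inferInstance⟩, inferInstance⟩
      (inferInstanceAs (IsIso (𝟙 T)))
  -- assemble
  let s : ∀ i, U ⟶ Y := fun i => inv ((C i).ι ≫ yh) ≫ (C i).ι
  have hs : ∀ i, Set.range (s i) = (C i : Set Y) := fun i => by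
    show Set.range ((inv ((C i).ι ≫ yh) ≫ (C i).ι).base) = _
    rw [Scheme.Hom.comp_base, TopCat.coe_comp, Set.range_comp,
      Set.range_eq_univ.mpr (inv ((C i).ι ≫ yh)).surjective, Set.image_univ]
    exact Scheme.Opens.range_ι _
  let d : (∐ fun _ : I => U) ⟶ Y := Limits.Sigma.desc s
  haveI : IsOpenImmersion d := by
    haveI : ∀ i, IsOpenImmersion (s i) := fun i => inferInstance
    refine isOpenImmersion_sigmaDesc _ s ?_
    intro i j hij
    rw [Function.onFun, hs, hs, Set.disjoint_left]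
    rintro y hyi ⟨_, ⟨b, rfl⟩, rfl⟩
    have : σ j b ∈ p ⁻¹' (C i : Set Y) := hyi
    rw [hpre] at this
    obtain ⟨a, ha⟩ := this
    exact hij (hdisj i j a b ha)
  haveI : Surjective d := ⟨fun y => by
    obtain ⟨z, rfl⟩ := p.surjective y
    obtain ⟨i, a, rfl⟩ := hcov z
    have : p (σ i a) ∈ Set.range (s i) := by rw [hs]; exact ⟨σ i a, ⟨a, rfl⟩, rfl⟩
    obtain ⟨w, hw⟩ := this
    exact ⟨Sigma.ι (fun _ : I => U) i w, by rw [← Scheme.Hom.comp_apply, Sigma.ι_desc, hw]⟩⟩
  haveI : IsIso d := (isIso_iff_isOpenImmersion_and_epi_base d).2 ⟨inferInstance, (TopCat.epi_iff_surjective _).2 d.surjective⟩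
  refine ⟨(Over.isoMk (asIso d) (Sigma.hom_ext _ _ fun i => ?_)).symm⟩
  simp [d, s, TwC.const]

end TwEtLib
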